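import Groth.Agent.EtBcLimLib.Main
import Groth.Agent.EtContLib.PullSys
import Groth.Agent.S0139
import Mathlib.CategoryTheory.Limits.Connected
import Mathlib.CategoryTheory.Limits.Constructions.Over.Connected

/-!
# The monad `p_* p^*` commutes with limits of schemes over the base along affine maps

For `F₀` on `X` and a cofiltered limit `Y = lim Yᵢ` of qcqs `X`-schemes with affine transition maps, the
sheaves `pᵢ_* pᵢ^* F₀` have colimit `p_* p^* F₀`; hence maps from constructible sheaves factor through a stage.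
-/

set_option autoImplicit false
set_option linter.all false
set_option backward.isDefEq.respectTransparency false
set_option backward.isDefEq.respectTransparency.types false
set_option synthInstance.maxHeartbeats 400000
set_option maxHeartbeats 1000000

universe u

open CategoryTheory CategoryTheory.Limits AlgebraicGeometry Opposite
open Groth.Agent Groth.Agent.EtShLib DescSecLib EtContLib EtBcLimLib

noncomputable section

namespace ConsEmbedLib

/-- `bcCompHom` is invertible. -/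
theorem isIso_bcCompHom {A B C : Scheme.{u}} (f : A ⟶ B) (g : B ⟶ C) (h : A ⟶ C) (w : f ≫ g = h) (U : C.Etale) :
    IsIso (bcCompHom f g h w U) := by
  let l : pullback U.hom h ⟶ pullback U.hom g :=
    pullback.lift (pullback.fst U.hom h) (pullback.snd U.hom h ≫ f) (by rw [Category.assoc, w, pullback.condition])
  let inv' : (EtCoh.bc h).obj U ⟶ (EtCoh.bc f).obj ((EtCoh.bc g).obj U) :=
    MorphismProperty.Over.homMk (pullback.lift l (pullback.snd U.hom h) (pullback.lift_snd _ _ _))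
      (pullback.lift_snd _ _ _)
  have e : inv'.left ≫ pullback.fst ((EtCoh.bc g).obj U).hom f = l := pullback.lift_fst _ _ _
  refine ⟨inv', bc_ext2 f g _ _ ?_, bc_hom_ext h _ _ ?_⟩
  · show ((bcCompHom f g h w U).left ≫ inv'.left) ≫ _ ≫ _ = _
    rw [Category.assoc, reassoc_of% e, pullback.lift_fst, bcCompHom_fst]
    exact (Category.id_comp _).symm
  · show (inv'.left ≫ (bcCompHom f g h w U).left) ≫ _ = _
    rw [Category.assoc, bcCompHom_fst]
    erw [reassoc_of% e]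
    rw [pullback.lift_fst]
    exact (Category.id_comp _).symm

theorem isIso_etPc {A B C : Scheme.{u}} (f : A ⟶ B) (g : B ⟶ C) (h : A ⟶ C) (w : f ≫ g = h) (M : EtCoh.Ab A) :
    IsIso ((etPc f g h w).app M) := by
  haveI : ∀ U, IsIso (((etPc f g h w).app M).hom.app U) := fun U => by
    haveI := isIso_bcCompHom f g h w U.unop
    exact inferInstanceAs (IsIso (M.obj.map (bcCompHom f g h w U.unop).op))
  haveI : IsIso ((etPc f g h w).app M).hom := NatIso.isIso_of_isIso_app _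
  exact (isIso_iff_of_reflects_iso ((etPc f g h w).app M) (sheafToPresheaf _ _)).1 ‹_›

instance {A B C : Scheme.{u}} (f : A ⟶ B) (g : B ⟶ C) (h : A ⟶ C) (w : f ≫ g = h) (M : EtCoh.Ab A) :
    IsIso ((etPc f g h w).app M) := isIso_etPc f g h w M

variable {X : Scheme.{u}} (F₀ : EtCoh.Ab X)

/-- The sheaf `p_* p^* F₀`. -/
abbrev KObj (U : Over X) : EtCoh.Ab X := (EtCoh.push U.hom).obj ((EtCoh.pull U.hom).obj F₀)

/-- The transition map. -/
def KMap {U V : Over X} (φ : U ⟶ V) : KObj F₀ V ⟶ KObj F₀ U :=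
  (EtCoh.push V.hom).map (etSys.k F₀ φ) ≫ inv ((etPc φ.left V.hom U.hom (Over.w φ)).app ((EtCoh.pull U.hom).obj F₀))

theorem k_id (U : Over X) : etSys.k F₀ (𝟙 U) = (etPid U.left).hom.app ((EtCoh.pull U.hom).obj F₀) :=
  ((EtCoh.pullPushAdj (𝟙 U.left)).homEquiv _ _).symm.injective (etSys.θ_id F₀ U)

theorem KMap_id (U : Over X) : KMap F₀ (𝟙 U) = 𝟙 _ := by
  rw [KMap, k_id, IsIso.comp_inv_eq, Category.id_comp]
  exact (etSys.pc_id U.hom _).symm

theorem KMap_comp {U V W : Over X} (φ : U ⟶ V) (ψ : V ⟶ W) :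
    KMap F₀ (φ ≫ ψ) = KMap F₀ ψ ≫ KMap F₀ φ := by
  let M := (EtCoh.pull U.hom).obj F₀
  let N := (EtCoh.pull V.hom).obj F₀
  have hk := etSys.k_comp F₀ φ ψ (φ ≫ ψ).left rfl (φ ≫ ψ) rfl
  have ha := etSys.pc_assoc φ.left ψ.left W.hom (φ ≫ ψ).left V.hom U.hom rfl (Over.w ψ) (Over.w φ) (Over.w (φ ≫ ψ)) M
  have hn := (etPc ψ.left W.hom V.hom (Over.w ψ)).naturality (etSys.k F₀ φ)
  rw [KMap, IsIso.comp_inv_eq]
  rw [← cancel_mono ((EtCoh.push W.hom).map ((etPc φ.left ψ.left (φ ≫ ψ).left rfl).app M))]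
  rw [Category.assoc, ← Functor.map_comp]
  erw [← hk, ← ha]
  rw [KMap, KMap, Category.assoc, Category.assoc, Category.assoc]
  erw [IsIso.inv_hom_id_assoc]
  rw [Functor.map_comp]
  refine congrArg ((EtCoh.push W.hom).map (etSys.k F₀ ψ) ≫ ·) ?_
  rw [IsIso.eq_inv_comp]
  exact hn.symm

/-- `p ↦ p_* p^* F₀`. -/
def K : (Over X)ᵒᵖ ⥤ EtCoh.Ab X where
  obj U := KObj F₀ U.unop
  map φ := KMap F₀ φ.unop
  map_id U := KMap_id F₀ U.unop
  map_comp φ ψ := KMap_comp F₀ ψ.unop φ.unop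

/-- The unit. -/
theorem unit_KMap {U V : Over X} (φ : U ⟶ V) :
    (EtCoh.pullPushAdj V.hom).unit.app F₀ ≫ KMap F₀ φ = (EtCoh.pullPushAdj U.hom).unit.app F₀ := by
  rw [KMap, ← Category.assoc, IsIso.comp_inv_eq]
  exact ((EtCoh.pullPushAdj V.hom).homEquiv_unit ..).symm.trans (etSys.homEquiv_k F₀ φ)

theorem pSwap_id_eq {U V : Over X} (φ : U ⟶ V) (w : φ.left ≫ V.hom = U.hom ≫ 𝟙 X) :
    ((EtCoh.push V.hom).map (etSys.k F₀ φ) ≫
        (EtBcQLib.sqα V.hom (𝟙 X) U.hom φ.left w).app ((EtCoh.pull U.hom).obj F₀)) ≫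
      (etPid X).inv.app ((EtCoh.push U.hom).obj ((EtCoh.pull U.hom).obj F₀)) = KMap F₀ φ := by
  rw [KMap, Category.assoc]
  refine congrArg (_ ≫ ·) ?_
  refine IsIso.eq_inv_of_hom_inv_id ?_
  refine Sheaf.hom_ext (NatTrans.ext (funext fun W => ?_))
  obtain ⟨W⟩ := W
  let M := (EtCoh.pull U.hom).obj F₀
  show M.obj.map (bcCompHom φ.left V.hom U.hom (Over.w φ) W).op ≫
      ((EtBcQLib.sqα V.hom (𝟙 X) U.hom φ.left w).app M).hom.app (op W) ≫
        M.obj.map ((EtCoh.bc U.hom).map (bcIdIso X W).inv).op = 𝟙 _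
  rw [sqα_app, ← M.obj.map_comp, ← M.obj.map_comp, ← op_comp, ← op_comp]
  refine Eq.trans (congrArg (fun t => M.obj.map (Quiver.Hom.op t)) (?_ : _ = 𝟙 _)) (M.obj.map_id _)
  refine bc_hom_ext U.hom _ _ ?_
  show (((EtCoh.bc U.hom).map (bcIdIso X W).inv).left ≫ (sqI V.hom U.hom (𝟙 X) φ.left w W).left ≫
      (bcCompHom φ.left V.hom U.hom (Over.w φ) W).left) ≫ pullback.fst W.hom U.hom = _
  simp only [Category.assoc]
  erw [bcCompHom_fst φ.left V.hom U.hom (Over.w φ) W, sqI_fst_fst V.hom U.hom (𝟙 X) φ.left w W,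
    reassoc_of% (bc_map_fst U.hom (bcIdIso X W).inv)]
  have e : (bcIdIso X W).inv.left ≫ pullback.fst W.hom (𝟙 X) = 𝟙 _ :=
    congrArg (fun z => z.left) (bcIdIso X W).inv_hom_id
  erw [e, Category.comp_id]

theorem sig_id {A B : EtCoh.Ab X} (h : A ⟶ (EtCoh.push (𝟙 X)).obj B) {Ω : Type u} [Field Ω] [IsSepClosed Ω]
    (η : Spec (CommRingCat.of Ω) ⟶ X) (η' : Spec (CommRingCat.of Ω) ⟶ X) (hη : η ≫ 𝟙 X = η')
    (he : η' = η) (a : ToType ((stk (A := AddCommGrpCat.{u + 1}) η').obj A)) :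
    sig (𝟙 X) η η' hη h a =
      (stk (A := AddCommGrpCat.{u + 1}) η).map (h ≫ (etPid X).inv.app B)
        (eqToHom (congrArg (fun t => (stk (A := AddCommGrpCat.{u + 1}) t).obj A) he) a) := by
  subst he
  obtain ⟨W, v, s, rfl⟩ := exists_germ (A := AddCommGrpCat.{u + 1}) η' a
  rw [germ_sig]
  refine Eq.trans ?_ (congrArg _ (ConcreteCategory.id_apply _ : _ = germ η' A W v s)).symm
  rw [germ_natural_apply]
  show _ = germ η' B W v (B.obj.map (bcIdIso X W).inv.op (h.hom.app (op W) s))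
  rw [germ_res_apply]
  refine congrArg (fun t => germ η' B _ t (h.hom.app (op W) s)) (Fib.ext ?_)
  rw [Fib.map_hom]
  show _ = v.hom ≫ inv (pullback.fst W.hom (𝟙 X))
  rw [IsIso.eq_comp_inv]
  exact pullback.lift_fst _ _ _

variable {ι : Type u} [Preorder ι] [Nonempty ι] [IsDirected ι (· ≤ ·)] (D : ιᵒᵖ ⥤ Over X) (c : Cone D)
  (hc : IsLimit c) [∀ (i j : ιᵒᵖ) (m : i ⟶ j), IsAffineHom (D.map m).left]
  [∀ i, QuasiCompact (D.obj i).hom] [∀ i, QuasiSeparated (D.obj i).hom]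

/-- The comparison map from a stage. -/
abbrev kap (i : ι) : KObj F₀ (D.obj (op i)) ⟶ KObj F₀ c.pt := KMap F₀ (c.π.app (op i))

/-- The diagram of stages. -/
abbrev stages : ι ⥤ EtCoh.Ab X := D.rightOp ⋙ K F₀

include hc in
theorem gen_van {Ω : Type u} [Field Ω] [IsSepClosed Ω] (η : Spec (CommRingCat.of Ω) ⟶ X) :
    (∀ z : ToType ((stk (A := AddCommGrpCat.{u + 1}) η).obj (KObj F₀ c.pt)),
      ∃ (i : ι) (y : ToType ((stk (A := AddCommGrpCat.{u + 1}) η).obj (KObj F₀ (D.obj (op i))))),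
        (stk (A := AddCommGrpCat.{u + 1}) η).map (kap F₀ D c i) y = z) ∧
    (∀ (i : ι) (y : ToType ((stk (A := AddCommGrpCat.{u + 1}) η).obj (KObj F₀ (D.obj (op i))))),
      (stk (A := AddCommGrpCat.{u + 1}) η).map (kap F₀ D c i) y = 0 →
        ∃ (k : ι) (a : i ⟶ k), (stk (A := AddCommGrpCat.{u + 1}) η).map ((stages F₀ D).map a) y = 0) := by
  haveI : IsConnected ιᵒᵖ := IsCofiltered.isConnected ιᵒᵖ
  let Ts : ιᵒᵖ ⥤ Scheme.{u} := D ⋙ Over.forget X
  let Ss : ιᵒᵖ ⥤ Scheme.{u} := (Functor.const ιᵒᵖ).obj X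
  let gN : Ts ⟶ Ss :=
    { app := fun i => (D.obj i).hom
      naturality := fun i j m => (Over.w (D.map m)).trans (Category.comp_id _).symm }
  let cT : Cone Ts := (Over.forget X).mapCone c
  have hcT : IsLimit cT := isLimitOfPreserves (Over.forget X) hc
  let cS : Cone Ss := constCone ιᵒᵖ X
  have hcS : IsLimit cS := isLimitConstCone ιᵒᵖ X
  haveI : ∀ (i j : ιᵒᵖ) (m : i ⟶ j), IsAffineHom (Ts.map m) := fun i j m =>
    inferInstanceAs (IsAffineHom (D.map m).left)
  haveI : ∀ (i j : ιᵒᵖ) (m : i ⟶ j), IsAffineHom (Ss.map m) := fun i j m => inferInstanceAs (IsAffineHom (𝟙 X))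
  haveI : ∀ i, QuasiCompact (gN.app i) := fun i => inferInstanceAs (QuasiCompact (D.obj i).hom)
  haveI : ∀ i, QuasiSeparated (gN.app i) := fun i => inferInstanceAs (QuasiSeparated (D.obj i).hom)
  let g : cT.pt ⟶ cS.pt := c.pt.hom
  have hg : ∀ i, cT.π.app i ≫ gN.app i = g ≫ cS.π.app i := fun i =>
    (Over.w (c.π.app i)).trans (Category.comp_id _).symm
  let Rs := EtContLib.pullPre F₀ (D := Ts) (S := X) gN
  let G := (EtCoh.pull g).obj F₀
  let wT : ∀ j, cT.π.app j ≫ gN.app j = g := fun j => Over.w (c.π.app j)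
  let ψ := EtContLib.pullPsi F₀ gN cT g wT
  have hψ := fun {k j : ιᵒᵖ} (a : k ⟶ j) => EtContLib.pullPsi_compat F₀ gN cT g wT a
  have HL := stkLim_of_isLim Rs G ψ hψ (EtContLib.isLim_pullPre F₀ gN cT g wT)
  obtain ⟨HG, HV⟩ := genVan_Rpush gN g hg hcT hcS Rs G ψ hψ 0 HL η
  -- the comparison of `R⁰` with the direct image
  let τ0 : ∀ {A : Scheme.{u}} (p : A ⟶ X) (M : EtCoh.Ab A), (EtCoh.push p).obj M ⟶ (EtCoh.Rpush p 0).obj M :=
    fun p M => (EtCoh.push p).toRightDerivedZero.app M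
  have hb : ∀ {A : Scheme.{u}} (p : A ⟶ X) (M : EtCoh.Ab A) (ξ : Spec (CommRingCat.of Ω) ⟶ X),
      Function.Bijective ((stk (A := AddCommGrpCat.{u + 1}) ξ).map (τ0 p M)) := fun {A} p M ξ => by
    haveI : (EtCoh.push p).IsRightAdjoint := (EtCoh.pullPushAdj p).isRightAdjoint
    haveI : IsIso (τ0 p M) := inferInstanceAs (IsIso ((EtCoh.push p).toRightDerivedZero.app M))
    exact ConcreteCategory.bijective_of_isIso _
  -- the maps of the system on direct images
  have key : ∀ (η : Spec (CommRingCat.of Ω) ⟶ X) {U V : Over X} (φ : U ⟶ V)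
      (w : φ.left ≫ V.hom = U.hom ≫ 𝟙 X)
      (ξ : Spec (CommRingCat.of Ω) ⟶ X) (h1 : η ≫ 𝟙 X = ξ) (h2 : ξ = η)
      (y : ToType ((stk (A := AddCommGrpCat.{u + 1}) ξ).obj (KObj F₀ V))),
      sig (𝟙 X) η ξ h1 (R V.hom U.hom (𝟙 X) φ.left w 0 (etSys.k F₀ φ))
          ((stk (A := AddCommGrpCat.{u + 1}) ξ).map (τ0 V.hom _) y) =
        (stk (A := AddCommGrpCat.{u + 1}) η).map (τ0 U.hom _)
          ((stk (A := AddCommGrpCat.{u + 1}) η).map (KMap F₀ φ)
            (eqToHom (congrArg (fun t => (stk (A := AddCommGrpCat.{u + 1}) t).obj (KObj F₀ V)) h2) y)) := by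
    intro η U V φ w ξ h1 h2 y
    rw [← sig_precomp, toRightDerivedZero_R, sig_postcomp, sig_id _ η ξ h1 h2]
    exact congrArg (fun t => (stk (A := AddCommGrpCat.{u + 1}) η).map (τ0 U.hom _)
      ((stk (A := AddCommGrpCat.{u + 1}) η).map t
        (eqToHom (congrArg (fun t => (stk (A := AddCommGrpCat.{u + 1}) t).obj (KObj F₀ V)) h2) y))) (pSwap_id_eq F₀ φ w)
  have e1 : ∀ i : ιᵒᵖ, η ≫ cS.π.app i = η := fun i => Category.comp_id η
  refine ⟨fun z => ?_, fun i y hy => ?_⟩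
  · obtain ⟨i, y, hy⟩ := HG ((stk (A := AddCommGrpCat.{u + 1}) η).map (τ0 g G) z)
    obtain ⟨y', rfl⟩ := (hb (gN.app i) (Rs.F i) (η ≫ cS.π.app i)).2 y
    refine ⟨i.unop, eqToHom (congrArg (fun t => (stk (A := AddCommGrpCat.{u + 1}) t).obj (KObj F₀ (D.obj i))) (e1 i)) y',
      (hb g G η).1 ?_⟩
    exact (key η (c.π.app i) (hg i) (η ≫ cS.π.app i) rfl (e1 i) y').symm.trans hy
  · let y' := eqToHom (congrArg (fun t => (stk (A := AddCommGrpCat.{u + 1}) t).obj (KObj F₀ (D.obj (op i)))) (e1 (op i)).symm) y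
    have hyy : eqToHom (congrArg (fun t => (stk (A := AddCommGrpCat.{u + 1}) t).obj (KObj F₀ (D.obj (op i)))) (e1 (op i))) y' = y := by
      rw [← ConcreteCategory.comp_apply, eqToHom_trans, eqToHom_refl, ConcreteCategory.id_apply]
    obtain ⟨k, a, ha⟩ := HV (op i) ((stk (A := AddCommGrpCat.{u + 1}) (η ≫ cS.π.app (op i))).map (τ0 (gN.app (op i)) _) y') (by
      refine (key η (c.π.app (op i)) (hg (op i)) (η ≫ cS.π.app (op i)) rfl (e1 (op i)) y').trans ?_
      rw [hyy]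
      exact (congrArg _ hy).trans (map_zero _))
    refine ⟨k.unop, a.unop, ?_⟩
    have hik : η ≫ cS.π.app (op i) = η ≫ cS.π.app k := (e1 (op i)).trans (e1 k).symm
    have h0 := (key (η ≫ cS.π.app k) (D.map a) (gN.naturality a) (η ≫ cS.π.app (op i))
      (Category.comp_id _) hik y').symm.trans ha
    have h1 := (hb (D.obj k).hom _ (η ≫ cS.π.app k)).1 (h0.trans (map_zero _).symm)
    have mv : ∀ {ξ : Spec (CommRingCat.of Ω) ⟶ X} (h : ξ = η) {A B : EtCoh.Ab X} (f : A ⟶ B)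
        (y : ToType ((stk (A := AddCommGrpCat.{u + 1}) ξ).obj A)),
        (stk (A := AddCommGrpCat.{u + 1}) ξ).map f y = 0 →
          (stk (A := AddCommGrpCat.{u + 1}) η).map f
            (eqToHom (congrArg (fun t => (stk (A := AddCommGrpCat.{u + 1}) t).obj A) h) y) = 0 := by
      rintro ξ rfl A B f y hy
      rw [eqToHom_refl, ConcreteCategory.id_apply, hy]
    have h2 := mv (e1 k) (KMap F₀ (D.map a)) _ h1
    have e2 : eqToHom (congrArg (fun t => (stk (A := AddCommGrpCat.{u + 1}) t).obj (KObj F₀ (D.obj (op i)))) (e1 k))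
        (eqToHom (congrArg (fun t => (stk (A := AddCommGrpCat.{u + 1}) t).obj (KObj F₀ (D.obj (op i)))) hik) y') = y := by
      rw [← ConcreteCategory.comp_apply, eqToHom_trans]
      exact hyy
    exact (congrArg _ e2).symm.trans h2

include hc in
theorem isIso_desc :
    IsIso (colimit.desc (stages F₀ D) ((K F₀).mapCocone (coconeRightOpOfCone c))) := by
  let σ := colimit.desc (stages F₀ D) ((K F₀).mapCocone (coconeRightOpOfCone c))
  refine isIso_of_stalks (A := AddCommGrpCat.{u + 1}) σ fun Ω _ _ η => ?_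
  obtain ⟨hG, hV⟩ := gen_van F₀ D c hc η
  have hfac : ∀ (i : ι) (y : ToType ((stk (A := AddCommGrpCat.{u + 1}) η).obj (KObj F₀ (D.obj (op i))))),
      (stk (A := AddCommGrpCat.{u + 1}) η).map σ ((stk (A := AddCommGrpCat.{u + 1}) η).map (colimit.ι (stages F₀ D) i) y) =
        (stk (A := AddCommGrpCat.{u + 1}) η).map (kap F₀ D c i) y := fun i y => by
    rw [← ConcreteCategory.comp_apply, ← Functor.map_comp, colimit.ι_desc]
    rfl
  have hcol := isColimitOfPreserves (stk (A := AddCommGrpCat.{u + 1}) η) (colimit.isColimit (stages F₀ D))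
  refine (ConcreteCategory.isIso_iff_bijective _).2 ⟨?_, fun z => ?_⟩
  · rw [injective_iff_map_eq_zero]
    intro p hp
    obtain ⟨i, y, rfl⟩ := Concrete.isColimit_exists_rep _ hcol p
    obtain ⟨k, a, ha⟩ := hV i y ((hfac i y).symm.trans hp)
    show (stk (A := AddCommGrpCat.{u + 1}) η).map (colimit.ι (stages F₀ D) i) y = 0
    rw [← colimit.w (stages F₀ D) a, Functor.map_comp, ConcreteCategory.comp_apply, ha, map_zero]
  · obtain ⟨i, y, hy⟩ := hG z
    exact ⟨_, (hfac i y).trans hy⟩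

include hc in
/-- Maps from constructible sheaves factor through a stage. -/
theorem exists_factor [CompactSpace X] [QuasiSeparatedSpace X] {F : EtCoh.Ab X} (hF : EtPBC.IsConstructible F)
    (a : F ⟶ KObj F₀ c.pt) : ∃ (i : ι) (b : F ⟶ KObj F₀ (D.obj (op i))), b ≫ kap F₀ D c i = a := by
  haveI := isIso_desc F₀ D c hc
  let σ : colimit (stages F₀ D) ⟶ KObj F₀ c.pt :=
    colimit.desc (stages F₀ D) ((K F₀).mapCocone (coconeRightOpOfCone c))
  haveI : IsIso σ := isIso_desc F₀ D c hc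
  haveI := Groth.Agent.S0139.result.{u} X F hF ι
  obtain ⟨i, b, hb⟩ := Types.jointly_surjective_of_isColimit
    (isColimitOfPreserves (coyoneda.obj (op F)) (colimit.isColimit (stages F₀ D))) (a ≫ inv σ)
  refine ⟨i, b, ?_⟩
  have hb' : b ≫ colimit.ι (stages F₀ D) i = a ≫ inv σ := hb
  calc b ≫ kap F₀ D c i = b ≫ colimit.ι (stages F₀ D) i ≫ σ := by rw [colimit.ι_desc]; rfl
    _ = a := by rw [← Category.assoc, hb', Category.assoc, IsIso.inv_hom_id, Category.comp_id]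

end ConsEmbedLib
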