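import Groth.Agent.ConsEmbedLib.Point
import Groth.Agent.S0137

/-!
# Constructible sheaves embed in finite sums of direct images of constant sheaves
-/

set_option autoImplicit false
set_option linter.all false
set_option backward.isDefEq.respectTransparency false
set_option backward.isDefEq.respectTransparency.types false
set_option synthInstance.maxHeartbeats 400000
set_option maxHeartbeats 1000000

universe u

open CategoryTheory CategoryTheory.Limits AlgebraicGeometry Opposite
open Groth.Agent Groth.Agent.EtShLib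

noncomputable section

namespace ConsEmbedLib

theorem exists_embed {X : Scheme.{u}} [CompactSpace X] [QuasiSeparatedSpace X] {F : EtCoh.Ab X}
    (hF : EtPBC.IsConstructible F) :
    ∃ (n : ℕ) (Y : Fin n → Scheme.{u}) (f : ∀ i, Y i ⟶ X) (_ : ∀ i, IsFinite (f i))
      (_ : ∀ i, LocallyOfFinitePresentation (f i))
      (M : Fin n → Type) (_ : ∀ i, AddCommGroup (M i)) (_ : ∀ i, Finite (M i))
      (ι : F ⟶ ⨁ fun i => (EtCoh.push (f i)).obj (EtCoh.const (Y i) (M i))), Mono ι := by
  classical
  choose Y p hfin hfp M iM fM φ Ω iF iS ζ hζ hinj using exists_map_point hF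
  have hK : ∀ x, IsCons (A := AddCommGrpCat.{u + 1}) FinP (kernel (φ x)) := fun x => by
    haveI := hfin x; haveI := hfp x
    haveI : CompactSpace (Y x) := QuasiCompact.compactSpace_of_compactSpace (p x)
    haveI : QuasiSeparatedSpace (Y x) := quasiSeparatedSpace_of_quasiSeparated (p x)
    haveI : Finite (AddCommGrpCat.of (ULift.{u + 1} (M x))) := inferInstanceAs (Finite (ULift.{u + 1} (M x)))
    exact cons_kernel _ ((isConstructible_iff _).1 hF) ((isConstructible_iff _).1
      (Groth.Agent.S0137.result (p x) _ ((isConstructible_iff _).2 (isCons_const _))))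
  have h0 : ∀ x, x ∈ (EtPBC.supp (kernel (φ x)))ᶜ := fun x => by
    rintro ⟨Ω', _, _, ξ', hr, hne⟩
    letI := iF x; letI := iS x
    refine hne (isZero_stalk_congr (hK x) (ξ := ζ x) ((hζ x).trans ((hr.subset ⟨default, rfl⟩).symm)) ?_)
    haveI : Mono ((stk (A := AddCommGrpCat.{u + 1}) (ζ x)).map (kernel.ι (φ x))) := inferInstance
    refine IsZero.of_mono_eq_zero ((stk (A := AddCommGrpCat.{u + 1}) (ζ x)).map (kernel.ι (φ x)))
      (ConcreteCategory.hom_ext _ _ fun q => hinj x ?_)
    rw [← ConcreteCategory.comp_apply, ← Functor.map_comp, kernel.condition, Functor.map_zero]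
    exact (map_zero _).symm
  obtain ⟨s, hs⟩ := exists_finite_subcover_constructible (fun x => (EtPBC.supp (kernel (φ x)))ᶜ)
    (fun x => ((isLocallyConstructible_supp ((isConstructible_iff _).2 (hK x))).isConstructible).compl)
    (Set.eq_univ_of_forall fun x => Set.mem_iUnion.2 ⟨x, h0 x⟩)
  let E := Fintype.equivFin s
  let P : Fin (Fintype.card s) → EtCoh.Ab X := fun i =>
    (EtCoh.push (p (E.symm i).1)).obj (EtCoh.const (Y (E.symm i).1) (M (E.symm i).1))
  let Φ : F ⟶ ⨁ P := biproduct.lift fun i => φ (E.symm i).1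
  refine ⟨_, fun i => Y (E.symm i).1, fun i => p (E.symm i).1, fun i => hfin _, fun i => hfp _,
    fun i => M (E.symm i).1, fun i => iM _, fun i => fM _, Φ, ?_⟩
  refine Preadditive.mono_of_kernel_zero ?_
  haveI : IsIso (0 : kernel Φ ⟶ kernel Φ) := isIso_of_stalks (A := AddCommGrpCat.{u + 1}) _ fun Ω' _ _ ξ' => by
    obtain ⟨x, hx, hmem⟩ := Set.mem_iUnion₂.1 (hs.ge (Set.mem_univ (ξ'.base default)))
    have hz : IsZero ((stk (A := AddCommGrpCat.{u + 1}) ξ').obj (kernel (φ x))) := by
      by_contra hne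
      exact hmem ⟨Ω', inferInstance, inferInstance, ξ', range_eq_singleton _, hne⟩
    have key : ∀ j : s, kernel.ι Φ ≫ φ j.1 = 0 := fun j => by
      obtain ⟨l, rfl⟩ := E.symm.surjective j
      rw [← biproduct.lift_π (fun i => φ (E.symm i).1) l, ← Category.assoc, kernel.condition, zero_comp]
    haveI : Mono (kernel.lift (φ x) (kernel.ι Φ) (key ⟨x, hx⟩)) := mono_of_mono_fac (kernel.lift_ι _ _ _)
    have h := IsZero.of_mono ((stk (A := AddCommGrpCat.{u + 1}) ξ').map (kernel.lift (φ x) (kernel.ι Φ) (key ⟨x, hx⟩))) hz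
    exact ⟨0, h.eq_of_src _ _, h.eq_of_src _ _⟩
  rw [← cancel_epi (0 : kernel Φ ⟶ kernel Φ)]
  simp

end ConsEmbedLib
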