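import Groth.Agent.ConsEmbedLib.Colim
import Groth.Agent.ConstUnitLib.Unit
import Groth.Agent.EtShLib.SpecLC
import Groth.Agent.EtShLib.Generate
import Groth.Agent.EtShLib.Constructible
import Groth.Agent.EtShLib.SamePoint
import Groth.Agent.EtShLib.ConstSheaf
import Groth.Agent.DevissLib.ClosedImm
import Groth.Agent.S4448
import Groth.Agent.S7382
import Mathlib.FieldTheory.IsSepClosed

/-!
# Constructible sheaves embed in direct images of constant sheaves along finite morphisms
-/

set_option autoImplicit false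
set_option linter.all false
set_option backward.isDefEq.respectTransparency false
set_option backward.isDefEq.respectTransparency.types false
set_option synthInstance.maxHeartbeats 400000
set_option maxHeartbeats 1000000

universe u

open CategoryTheory CategoryTheory.Limits AlgebraicGeometry Opposite
open Groth.Agent Groth.Agent.EtShLib DescSecLib

noncomputable section

namespace ConsEmbedLib

/-- The constant sheaf with value `M`. -/
abbrev cst (X : Scheme.{u}) (M : AddCommGrpCat.{u + 1}) : EtCoh.Ab X :=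
  (constantSheaf X.smallEtaleTopology AddCommGrpCat.{u + 1}).obj M

theorem isCst_id_germ {Ω : Type u} [Field Ω] [IsSepClosed Ω] (G : EtCoh.Ab (Spec (CommRingCat.of Ω)))
    (u : Fib (𝟙 (Spec (CommRingCat.of Ω))) (EtCoh.top _)) :
    Function.Bijective (germ (A := AddCommGrpCat.{u + 1}) (𝟙 (Spec (CommRingCat.of Ω))) G (EtCoh.top _) u) := by
  let hT := EtCore.topIsTerminal (Spec (CommRingCat.of Ω))
  constructor
  · intro a b e
    obtain ⟨V, k, v, hv, he⟩ := (germ_eq_iff _ _ u a b).1 e
    let g : EtCoh.top _ ⟶ V := MorphismProperty.Over.homMk v.hom v.w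
    have h1 : G.obj.map g.op (G.obj.map k.op a) = G.obj.map g.op (G.obj.map k.op b) := congrArg _ he
    have h2 : g ≫ k = 𝟙 _ := hT.hom_ext _ _
    simpa only [← ConcreteCategory.comp_apply, ← Functor.map_comp, ← op_comp, h2, op_id,
      CategoryTheory.Functor.map_id, ConcreteCategory.id_apply] using h1
  · intro p
    obtain ⟨W, w, s, rfl⟩ := exists_germ (A := AddCommGrpCat.{u + 1}) _ p
    let g : EtCoh.top _ ⟶ W := MorphismProperty.Over.homMk w.hom w.w
    refine ⟨G.obj.map g.op s, ?_⟩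
    rw [germ_res_apply]
    refine congrArg (fun t => germ (A := AddCommGrpCat.{u + 1}) _ G W t s) (Fib.ext ?_)
    rw [Fib.map_hom]
    have : u.hom = 𝟙 _ := (Category.comp_id _).symm.trans u.w
    rw [this]
    exact Category.id_comp _

/-- The map out of a constant sheaf. -/
def cstPre {X : Scheme.{u}} {M : AddCommGrpCat.{u + 1}} {G : EtCoh.Ab X}
    (η : M ⟶ G.obj.obj (op (EtCoh.top X))) : (Functor.const (X.Etale)ᵒᵖ).obj M ⟶ G.obj where
  app W := η ≫ G.obj.map ((EtCore.topIsTerminal X).from W.unop).op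
  naturality V W i := by
    rw [Category.assoc, ← Functor.map_comp]
    refine (Category.id_comp _).trans (congrArg (η ≫ ·) (congrArg G.obj.map ?_))
    exact Quiver.Hom.unop_inj ((EtCore.topIsTerminal X).hom_ext _ _)

/-- The map out of a constant sheaf. -/
def cstDesc {X : Scheme.{u}} {M : AddCommGrpCat.{u + 1}} {G : EtCoh.Ab X}
    (η : M ⟶ G.obj.obj (op (EtCoh.top X))) : cst X M ⟶ G :=
  ⟨sheafifyLift X.smallEtaleTopology (cstPre η) G.property⟩

theorem cstUnit_cstDesc {X : Scheme.{u}} {M : AddCommGrpCat.{u + 1}} {G : EtCoh.Ab X}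
    (η : M ⟶ G.obj.obj (op (EtCoh.top X))) :
    cstUnit X M ≫ (cstDesc η).hom.app (op (EtCoh.top X)) = η := by
  refine Eq.trans (congrArg (fun t => NatTrans.app t (op (EtCoh.top X)))
    (toSheafify_sheafifyLift X.smallEtaleTopology (cstPre η) G.property)) ?_
  show η ≫ G.obj.map _ = η
  rw [(EtCore.topIsTerminal X).hom_ext ((EtCore.topIsTerminal X).from _) (𝟙 _), op_id,
    CategoryTheory.Functor.map_id, Category.comp_id]

theorem isIso_stk_cstDesc {X : Scheme.{u}} {M : AddCommGrpCat.{u + 1}} {G : EtCoh.Ab X}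
    (η : M ⟶ G.obj.obj (op (EtCoh.top X))) {Ω : Type u} [Field Ω] [IsSepClosed Ω]
    (ξ : Spec (CommRingCat.of Ω) ⟶ X) (u : Fib ξ (EtCoh.top X))
    (h : IsIso (η ≫ germ ξ G (EtCoh.top X) u)) :
    IsIso ((stk (A := AddCommGrpCat.{u + 1}) ξ).map (cstDesc η)) := by
  haveI := isCst_cstUnit (X := X) M Ω ξ u
  haveI := h
  have e : (cstUnit X M ≫ germ ξ (cst X M) (EtCoh.top X) u) ≫
      (stk (A := AddCommGrpCat.{u + 1}) ξ).map (cstDesc η) = η ≫ germ ξ G (EtCoh.top X) u := by
    rw [Category.assoc, germ_natural, ← Category.assoc, cstUnit_cstDesc]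
  haveI : IsIso ((cstUnit X M ≫ germ ξ (cst X M) (EtCoh.top X) u) ≫
      (stk (A := AddCommGrpCat.{u + 1}) ξ).map (cstDesc η)) := by rw [e]; exact h
  exact IsIso.of_isIso_comp_left (cstUnit X M ≫ germ ξ (cst X M) (EtCoh.top X) u) _

/-- Sheaves on the spectrum of a separably closed field are constant. -/
theorem nonempty_cst_iso {Ω : Type u} [Field Ω] [IsSepClosed Ω] (G : EtCoh.Ab (Spec (CommRingCat.of Ω))) :
    Nonempty (cst _ (G.obj.obj (op (EtCoh.top _))) ≅ G) := by
  let φ := cstDesc (G := G) (𝟙 _)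
  haveI : IsIso φ := isIso_of_stalks (A := AddCommGrpCat.{u + 1}) φ fun Ω' _ _ ξ' => by
    obtain ⟨e⟩ := nonempty_stk_iso_of_eq (A := AddCommGrpCat.{u + 1}) (ξ := 𝟙 (Spec (CommRingCat.of Ω))) (ξ' := ξ')
      (Subsingleton.elim _ _)
    let u : Fib (𝟙 (Spec (CommRingCat.of Ω))) (EtCoh.top _) := Fib.mk (𝟙 _) (Category.id_comp _)
    haveI : IsIso ((stk (A := AddCommGrpCat.{u + 1}) (𝟙 (Spec (CommRingCat.of Ω)))).map φ) :=
      isIso_stk_cstDesc _ _ u (by
        rw [Category.id_comp]
        exact (ConcreteCategory.isIso_iff_bijective _).2 (isCst_id_germ G u))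
    exact (NatIso.isIso_map_iff e φ).1 ‹_›
  exact ⟨asIso φ⟩

/-- The pullback of a constant sheaf is constant. -/
theorem nonempty_pull_cst {X Y : Scheme.{u}} (f : X ⟶ Y) (M : AddCommGrpCat.{u + 1}) :
    Nonempty (cst X M ≅ (EtCoh.pull f).obj (cst Y M)) := by
  have h := (isCst_cstUnit (X := Y) M).pull (f := f) (A := AddCommGrpCat.{u + 1})
  have h' := h.map ((EtCore.bcTopIsTerminal f).from (EtCoh.top X))
  let φ := cstDesc (G := (EtCoh.pull f).obj (cst Y M))
    ((cstUnit Y M ≫ ((EtCoh.pullPushAdj f).unit.app (cst Y M)).hom.app (op (EtCoh.top Y))) ≫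
      ((EtCoh.pull f).obj (cst Y M)).obj.map ((EtCore.bcTopIsTerminal f).from (EtCoh.top X)).op)
  haveI : IsIso φ := isIso_of_stalks (A := AddCommGrpCat.{u + 1}) φ fun Ω _ _ ξ => by
    obtain ⟨u⟩ := exists_fib_of_range ξ (U := EtCoh.top X) ⟨ξ.base default, rfl⟩
    exact isIso_stk_cstDesc _ ξ u (h' Ω ξ u)
  exact ⟨asIso φ⟩

/-- The unit is injective at geometric points which lift. -/
theorem injective_stk_unit {X Y : Scheme.{u}} (f : X ⟶ Y) {Ω : Type u} [Field Ω] [IsSepClosed Ω]
    (t : Spec (CommRingCat.of Ω) ⟶ X) (F : EtCoh.Ab Y) :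
    Function.Injective ((stk (A := AddCommGrpCat.{u + 1}) (t ≫ f)).map ((EtCoh.pullPushAdj f).unit.app F)) := by
  rw [injective_iff_map_eq_zero]
  intro p hp
  obtain ⟨W, w, s, rfl⟩ := exists_germ (A := AddCommGrpCat.{u + 1}) (t ≫ f) p
  rw [germ_natural_apply] at hp
  have hs : germ t ((EtCoh.pull f).obj F) ((EtCoh.bc f).obj W) (w.lift f t)
      (((EtCoh.pullPushAdj f).unit.app F).hom.app (op W) s) = 0 := by
    obtain ⟨V, k, v, hv, he⟩ := (germ_eq_iff (t ≫ f) W w _ 0).1 (hp.trans (map_zero _).symm)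
    rw [map_zero] at he
    have hl : Fib.map ((EtCoh.bc f).map k) (v.lift f t) = w.lift f t := by
      rw [← hv]
      exact ((Fib.lift_proj f t _).symm.trans (congrArg (Fib.lift f t) ((Fib.proj_map f t k _).trans
        (congrArg (Fib.map k) (Fib.proj_lift f t v)))))
    rw [← hl, ← germ_res_apply]
    exact (congrArg _ he).trans (map_zero _)
  have e := congrArg (fun q => q s) (germ_stalkPull f t AddCommGrpCat.{u + 1} F W w)
  haveI : IsIso ((stalkPull f t AddCommGrpCat.{u + 1}).hom.app F) := inferInstance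
  refine (ConcreteCategory.bijective_of_isIso ((stalkPull f t AddCommGrpCat.{u + 1}).hom.app F)).1 ?_
  rw [map_zero]
  exact (ConcreteCategory.comp_apply _ _ _).symm.trans (e.trans ((ConcreteCategory.comp_apply _ _ _).trans hs))

theorem exists_normal_point {X : Scheme.{u}} (x : X) :
    ∃ (Ω : Type u) (_ : Field Ω) (_ : IsSepClosed Ω) (Y : Scheme.{u}) (_ : IsIntegral Y)
      (t : Spec (CommRingCat.of Ω) ⟶ Y) (ν : Y ⟶ X) (_ : IsIntegralHom ν) (_ : IsPreimmersion t),
      Pi1.IsNormalScheme Y ∧ Set.range t.base = {genericPoint Y} ∧ (t ≫ ν).base default = x := by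
  obtain ⟨Z, i, hi, hZ, hr⟩ := DevissLib.exists_integral_closed (isClosed_closure (s := ({x} : Set X)))
    isIrreducible_singleton.closure
  let Ω := SeparableClosure Z.functionField
  let φ : Z.functionField →+* Ω := algebraMap _ _
  let g : Spec (CommRingCat.of Ω) ⟶ Z := Spec.map (CommRingCat.ofHom φ) ≫ Z.fromSpecStalk (genericPoint Z)
  haveI : QuasiCompact g := ⟨fun U _ _ => (Set.toFinite _).isCompact⟩
  haveI : QuasiSeparated g := inferInstance
  obtain ⟨hY, hn, -, hgen, hinj, hsurj⟩ := Groth.Agent.S4448.result Z Ω φ g rfl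
  haveI := hY
  let t := g.toNormalization
  have hrange : Set.range t.base = {genericPoint g.normalization} := by
    rw [← hgen]
    exact Set.ext fun y => ⟨fun ⟨a, ha⟩ => ha.symm.trans (congrArg t.base (Subsingleton.elim _ _)),
      fun h => ⟨_, h.symm⟩⟩
  have hs : Function.Surjective (Scheme.stalkClosedPointTo t).hom := fun y => hsurj.ge (by
    obtain ⟨p, hp, hy⟩ := Algebra.IsIntegral.isIntegral (R := Z.functionField) (y : Ω)
    exact ⟨p, hp, hy⟩)
  haveI : IsPreimmersion t :=
    { isEmbedding := Topology.IsEmbedding.of_subsingleton _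
      stalkMap_surjective := fun a => by
        obtain rfl : a = IsLocalRing.closedPoint Ω := Subsingleton.elim _ _
        intro b
        obtain ⟨z, hz⟩ := hs ((stalkClosedPointIso (CommRingCat.of Ω)).hom b)
        refine ⟨z, ?_⟩
        exact (ConcreteCategory.bijective_of_isIso (stalkClosedPointIso (CommRingCat.of Ω)).hom).1 hz }
  refine ⟨Ω, inferInstance, inferInstance, g.normalization, hY, t, g.fromNormalization ≫ i, inferInstance, ‹_›, hn,
    hrange, ?_⟩
  have h1 : (t ≫ g.fromNormalization ≫ i).base default = i.base (g.base default) := by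
    rw [← Category.assoc, Scheme.Hom.toNormalization_fromNormalization]
    rfl
  have h2 : g.base default = genericPoint Z := by
    have : g.base default ⤳ genericPoint Z := (Z.range_fromSpecStalk (x := genericPoint Z)).le ⟨_, rfl⟩
    exact this.antisymm ((genericPoint_spec Z).specializes trivial) |>.eq
  rw [h1, h2]
  have h3 : IsGenericPoint (i.base (genericPoint Z)) (closure {x}) := by
    have := (genericPoint_spec Z).image i.continuous
    rwa [Set.image_univ, hr, closure_closure] at this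
  exact h3.eq isGenericPoint_closure

/-- A map to a finite direct image of a constant sheaf, injective at a given point. -/
theorem exists_map_point {X : Scheme.{u}} [CompactSpace X] [QuasiSeparatedSpace X] {F : EtCoh.Ab X}
    (hF : EtPBC.IsConstructible F) (x : X) :
    ∃ (Y : Scheme.{u}) (p : Y ⟶ X) (_ : IsFinite p) (_ : LocallyOfFinitePresentation p)
      (M : Type) (_ : AddCommGroup M) (_ : Finite M) (φ : F ⟶ (EtCoh.push p).obj (EtCoh.const Y M))
      (Ω : Type u) (_ : Field Ω) (_ : IsSepClosed Ω) (ζ : Spec (CommRingCat.of Ω) ⟶ X),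
        ζ.base default = x ∧ Function.Injective ((stk (A := AddCommGrpCat.{u + 1}) ζ).map φ) := by
  obtain ⟨Ω, iF, iS, Y, iY, t, ν, iν, it, hn, hrt, hx⟩ := exists_normal_point x
  let ξ := t ≫ ν
  let G := (EtCoh.pull ξ).obj F
  let N := G.obj.obj (op (EtCoh.top (Spec (CommRingCat.of Ω))))
  haveI : Finite N := by
    let u : Fib (𝟙 (Spec (CommRingCat.of Ω))) (EtCoh.top _) := Fib.mk (𝟙 _) (Category.id_comp _)
    haveI := finite_stalk_Ab ((isConstructible_iff _).1 hF) (𝟙 _ ≫ ξ)
    haveI : Finite ((stk (A := AddCommGrpCat.{u + 1}) (𝟙 (Spec (CommRingCat.of Ω)))).obj G) := Finite.of_equiv _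
      (((stalkPull ξ (𝟙 (Spec (CommRingCat.of Ω))) AddCommGrpCat.{u + 1}).app F).addCommGroupIsoToAddEquiv.toEquiv)
    exact Finite.of_equiv _ (Equiv.ofBijective _ (isCst_id_germ G u)).symm
  let M : Type := Shrink.{0} N
  let C : AddCommGrpCat.{u + 1} := AddCommGrpCat.of (ULift.{u + 1} M)
  let eN : N ≅ C := ((Shrink.addEquiv.{0} : M ≃+ N).symm.trans AddEquiv.ulift.symm).toAddCommGrpIso
  let F₀ := cst X C
  obtain ⟨e1⟩ := nonempty_cst_iso G
  obtain ⟨e2⟩ := nonempty_pull_cst t C
  obtain ⟨e3⟩ := nonempty_pull_cst ν C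
  haveI : IsIso ((EtCoh.pullPushAdj t).unit.app (cst Y C)) := by
    have hd : DenseRange t.base := by
      show Dense (Set.range t.base)
      rw [hrt]
      exact dense_iff_closure_eq.2 (genericPoint_spec Y)
    exact ConstUnitLib.isIso_unit_const t (ConstUnitLib.denseRange_fst hd) (ConstUnitLib.locExt_generic hn t hrt) C
  haveI := isIso_etPc t ν ξ rfl ((EtCoh.pull t).obj (cst Y C))
  let e : (EtCoh.push ξ).obj G ≅ KObj F₀ (Over.mk ν) :=
    (EtCoh.push ξ).mapIso (e1.symm ≪≫ (constantSheaf _ AddCommGrpCat.{u + 1}).mapIso eN ≪≫ e2) ≪≫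
      asIso ((etPc t ν ξ rfl).app ((EtCoh.pull t).obj (cst Y C))) ≪≫
      (EtCoh.push ν).mapIso ((asIso ((EtCoh.pullPushAdj t).unit.app (cst Y C))).symm ≪≫ e3)
  obtain ⟨I, _, _, _, D, c, hc, hD, ⟨ec⟩⟩ := Groth.Agent.S7382.result ν
  haveI : ∀ i, IsFinite (D.obj i).hom := fun i => (hD i).1
  haveI : ∀ (i j : Iᵒᵖ) (m : i ⟶ j), IsAffineHom (D.map m).left := fun i j m =>
    MorphismProperty.of_postcomp (W := @IsAffineHom) (W' := @IsSeparated) (D.map m).left (D.obj j).hom
      inferInstance (by rw [Over.w (D.map m)]; infer_instance)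
  let e' := e ≪≫ (K F₀).mapIso ec.op
  let a : F ⟶ KObj F₀ c.pt := (EtCoh.pullPushAdj ξ).unit.app F ≫ e'.hom
  obtain ⟨i, b, hb⟩ := exists_factor F₀ D c hc hF a
  obtain ⟨e4⟩ := nonempty_pull_cst (D.obj (op i)).hom C
  refine ⟨(D.obj (op i)).left, (D.obj (op i)).hom, (hD _).1, (hD _).2, M, inferInstance,
    Finite.of_equiv N (equivShrink.{0} N), b ≫ (EtCoh.push (D.obj (op i)).hom).map e4.inv, Ω, iF, iS, 𝟙 _ ≫ ξ, hx, ?_⟩
  have ha : Function.Injective ((stk (A := AddCommGrpCat.{u + 1}) (𝟙 _ ≫ ξ)).map a) := fun p q h => by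
    rw [Functor.map_comp, ConcreteCategory.comp_apply, ConcreteCategory.comp_apply] at h
    exact injective_stk_unit ξ (𝟙 _) F
      ((ConcreteCategory.bijective_of_isIso ((stk (A := AddCommGrpCat.{u + 1}) (𝟙 _ ≫ ξ)).map e'.hom)).1 h)
  intro p q h
  rw [Functor.map_comp, ConcreteCategory.comp_apply, ConcreteCategory.comp_apply] at h
  refine ha ?_
  rw [← hb, Functor.map_comp, ConcreteCategory.comp_apply, ConcreteCategory.comp_apply]
  exact congrArg _ ((ConcreteCategory.bijective_of_isIso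
    ((stk (A := AddCommGrpCat.{u + 1}) (𝟙 _ ≫ ξ)).map ((EtCoh.push (D.obj (op i)).hom).map e4.inv))).1 h)

end ConsEmbedLib
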